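import Groth.Agent.CMFlat.Comp
import Groth.Agent.CMFlat.BaseChange
import Groth.Agent.SpQS.GenPts
import Groth.Prelude.Def_CInt

/-!
# Dimensions of local rings of fibres: composition, base change, zero-dimensional points
-/

set_option autoImplicit false
set_option linter.style.haveILetI false
set_option backward.isDefEq.respectTransparency false
universe u

open IsLocalRing CategoryTheory AlgebraicGeometry Limits

namespace Groth.Agent.CInt

/-- dimension inequality for a local homomorphism -/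
theorem ringKrullDim_le_add {A B : Type u} [CommRing A] [CommRing B] [IsLocalRing A] [IsLocalRing B]
    [IsNoetherianRing A] [IsNoetherianRing B] [Algebra A B] [IsLocalHom (algebraMap A B)] :
    ringKrullDim B ≤ ringKrullDim A + ringKrullDim (B ⧸ (maximalIdeal A).map (algebraMap A B)) := by
  let q := Ideal.Quotient.mk ((maximalIdeal A).map (algebraMap A B))
  have hle : (maximalIdeal A).map (algebraMap A B) ≤ maximalIdeal B := CMFlat.map_le
  haveI : (maximalIdeal B).LiesOver (maximalIdeal A) := ⟨(maximalIdeal_comap _).symm⟩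
  haveI : Nontrivial (B ⧸ (maximalIdeal A).map (algebraMap A B)) := Ideal.Quotient.nontrivial_iff.mpr
    fun h => (maximalIdeal.isMaximal B).ne_top (top_le_iff.mp (h.ge.trans hle))
  haveI : IsLocalRing (B ⧸ (maximalIdeal A).map (algebraMap A B)) :=
    IsLocalRing.of_surjective' _ Ideal.Quotient.mk_surjective
  have hm : (maximalIdeal B).map q = maximalIdeal _ :=
    IsLocalRing.eq_maximalIdeal ((Ideal.map_eq_top_or_isMaximal_of_surjective q Ideal.Quotient.mk_surjective
      (maximalIdeal.isMaximal B)).resolve_left fun h => by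
        have := congrArg (Ideal.comap q) h
        rw [Ideal.comap_map_mk hle, Ideal.comap_top] at this
        exact (maximalIdeal.isMaximal B).ne_top this)
  have h := Ideal.height_le_height_add_of_liesOver (maximalIdeal A) (maximalIdeal B)
  rw [← IsLocalRing.maximalIdeal_height_eq_ringKrullDim, ← IsLocalRing.maximalIdeal_height_eq_ringKrullDim,
    ← IsLocalRing.maximalIdeal_height_eq_ringKrullDim, ← hm, ← WithBot.coe_add, WithBot.coe_le_coe]
  exact h

theorem fibre_comp_dim_le {A B C : Type u} [CommRing A] [CommRing B] [CommRing C] [IsLocalRing A] [IsLocalRing B]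
    [IsLocalRing C] [IsNoetherianRing B] [IsNoetherianRing C] [Algebra A B] [Algebra B C] [Algebra A C]
    [IsScalarTower A B C] [IsLocalHom (algebraMap A B)] [IsLocalHom (algebraMap B C)] :
    ringKrullDim (C ⧸ (maximalIdeal A).map (algebraMap A C)) ≤
      ringKrullDim (B ⧸ (maximalIdeal A).map (algebraMap A B)) +
        ringKrullDim (C ⧸ (maximalIdeal B).map (algebraMap B C)) := by
  let I := (maximalIdeal A).map (algebraMap A B)
  let J := (maximalIdeal A).map (algebraMap A C)
  have hIJ : J = I.map (algebraMap B C) := by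
    show J = ((maximalIdeal A).map (algebraMap A B)).map (algebraMap B C)
    rw [Ideal.map_map, ← IsScalarTower.algebraMap_eq]
  letI : Algebra (B ⧸ I) (C ⧸ J) :=
    (Ideal.quotientMap J (algebraMap B C) (Ideal.map_le_iff_le_comap.1 hIJ.ge)).toAlgebra
  have hI : I ≤ maximalIdeal B := CMFlat.map_maximalIdeal_le
  haveI : Nontrivial (B ⧸ I) :=
    Ideal.Quotient.nontrivial_iff.mpr fun h => (maximalIdeal.isMaximal B).ne_top (top_le_iff.mp (h.ge.trans hI))
  haveI : IsLocalRing (B ⧸ I) := IsLocalRing.of_surjective' _ Ideal.Quotient.mk_surjective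
  have hJ : J ≤ maximalIdeal C := hIJ.le.trans ((Ideal.map_mono hI).trans CMFlat.map_maximalIdeal_le)
  haveI : Nontrivial (C ⧸ J) :=
    Ideal.Quotient.nontrivial_iff.mpr fun h => (maximalIdeal.isMaximal C).ne_top (top_le_iff.mp (h.ge.trans hJ))
  haveI : IsLocalRing (C ⧸ J) := IsLocalRing.of_surjective' _ Ideal.Quotient.mk_surjective
  have hmB : maximalIdeal (B ⧸ I) = (maximalIdeal B).map (Ideal.Quotient.mk I) :=
    (IsLocalRing.eq_maximalIdeal ((Ideal.map_eq_top_or_isMaximal_of_surjective _ Ideal.Quotient.mk_surjective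
      (maximalIdeal.isMaximal B)).resolve_left fun h => by
        have := congrArg (Ideal.comap (Ideal.Quotient.mk I)) h
        rw [Ideal.comap_map_mk hI, Ideal.comap_top] at this
        exact (maximalIdeal.isMaximal B).ne_top this)).symm
  have hker : (maximalIdeal (B ⧸ I)).map (algebraMap (B ⧸ I) (C ⧸ J)) =
      ((maximalIdeal B).map (algebraMap B C)).map (Ideal.Quotient.mk J) := by
    rw [hmB, Ideal.map_map, Ideal.map_map]
    rfl
  haveI : IsLocalHom (algebraMap (B ⧸ I) (C ⧸ J)) := by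
    refine ((IsLocalRing.local_hom_TFAE _).out 0 2).mpr ?_
    rw [hker]
    refine (Ideal.map_mono CMFlat.map_maximalIdeal_le).trans ?_
    refine IsLocalRing.le_maximalIdeal fun h => ?_
    have := congrArg (Ideal.comap (Ideal.Quotient.mk J)) h
    rw [Ideal.comap_map_mk hJ, Ideal.comap_top] at this
    exact (maximalIdeal.isMaximal C).ne_top this
  let e : ((C ⧸ J) ⧸ (maximalIdeal (B ⧸ I)).map (algebraMap (B ⧸ I) (C ⧸ J))) ≃+*
      C ⧸ (maximalIdeal B).map (algebraMap B C) :=
    (Ideal.quotEquivOfEq hker).trans (DoubleQuot.quotQuotEquivQuotOfLE (hIJ.le.trans (Ideal.map_mono hI)))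
  rw [← ringKrullDim_eq_of_ringEquiv e]
  exact ringKrullDim_le_add

variable {X Y Z : Scheme.{u}}

theorem isNoetherianRing_fiberStalk (f : X ⟶ Y) [IsLocallyNoetherian X] (x : X) :
    IsNoetherianRing (_root_.CInt.fiberStalk f x) := by
  obtain ⟨e⟩ := CMFlat.nonempty_fiberStalk_equiv f x
  exact isNoetherianRing_of_ringEquiv _ e

theorem isNoetherianRing_stalk_fiber (f : X ⟶ Y) [IsLocallyNoetherian X] {y : Y} (z : f.fiber y) :
    IsNoetherianRing ((f.fiber y).presheaf.stalk z) := by
  obtain ⟨e⟩ := CMFlat.nonempty_stalk_equiv_asFiber f _ z rfl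
  haveI := isNoetherianRing_fiberStalk f (f.fiberι y z)
  exact isNoetherianRing_of_ringEquiv _ e.symm

theorem ringKrullDim_fiberStalk_le (f : X ⟶ Y) (x : X) :
    ringKrullDim (_root_.CInt.fiberStalk f x) ≤ ringKrullDim (X.presheaf.stalk x) := by
  obtain ⟨e⟩ := CMFlat.nonempty_fiberStalk_equiv f x
  rw [← ringKrullDim_eq_of_ringEquiv e]
  exact ringKrullDim_quotient_le _

theorem exists_fiberStalk_dim_zero (f : X ⟶ Y) (x : X) :
    ∃ x', f x' = f x ∧ x' ⤳ x ∧ ringKrullDim (_root_.CInt.fiberStalk f x') = 0 := by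
  obtain ⟨g, hg, hgm⟩ := SpQS.exists_isMaxPt_specializes (f.asFiber x)
  refine ⟨f.fiberι _ g, ?_, ?_, ?_⟩
  · have := Set.mem_range_self (f := f.fiberι (f x)) g
    rw [Scheme.Hom.range_fiberι] at this
    exact this
  · simpa using hg.map (f.fiberι (f x)).continuous
  · obtain ⟨e⟩ := CMFlat.nonempty_stalk_equiv_asFiber f _ g rfl
    exact (ringKrullDim_eq_of_ringEquiv e).symm.trans ((SpQS.stalk_dim_zero_iff g).mpr hgm)

/-- Fibres of a composition. -/
theorem ringKrullDim_fiberStalk_comp_le (g : X ⟶ Y) (f : Y ⟶ Z) [IsLocallyNoetherian X] [IsLocallyNoetherian Y]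
    (x : X) : ringKrullDim (_root_.CInt.fiberStalk (g ≫ f) x) ≤
      ringKrullDim (_root_.CInt.fiberStalk f (g x)) + ringKrullDim (_root_.CInt.fiberStalk g x) := by
  letI := (g.stalkMap x).hom.toAlgebra
  letI : Algebra (Z.presheaf.stalk (f (g x))) (Y.presheaf.stalk (g x)) := (f.stalkMap (g x)).hom.toAlgebra
  letI : Algebra (Z.presheaf.stalk (f (g x))) (X.presheaf.stalk x) :=
    ((g.stalkMap x).hom.comp (f.stalkMap (g x)).hom).toAlgebra
  haveI : IsScalarTower (Z.presheaf.stalk (f (g x))) (Y.presheaf.stalk (g x)) (X.presheaf.stalk x) :=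
    IsScalarTower.of_algebraMap_eq fun _ => rfl
  haveI : IsLocalHom (algebraMap (Y.presheaf.stalk (g x)) (X.presheaf.stalk x)) :=
    inferInstanceAs (IsLocalHom (g.stalkMap x).hom)
  haveI : IsLocalHom (algebraMap (Z.presheaf.stalk (f (g x))) (Y.presheaf.stalk (g x))) :=
    inferInstanceAs (IsLocalHom (f.stalkMap (g x)).hom)
  obtain ⟨e0⟩ := CMFlat.nonempty_fiberStalk_equiv (g ≫ f) x
  obtain ⟨e1⟩ := CMFlat.nonempty_fiberStalk_equiv f (g x)
  obtain ⟨e2⟩ := CMFlat.nonempty_fiberStalk_equiv g x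
  let e : (X.presheaf.stalk x ⧸ (maximalIdeal (Z.presheaf.stalk (f (g x)))).map
      (algebraMap (Z.presheaf.stalk (f (g x))) (X.presheaf.stalk x))) ≃+*
      (((g ≫ f).fiber ((g ≫ f) x)).presheaf.stalk ((g ≫ f).asFiber x)) :=
    (Ideal.quotEquivOfEq (by
      have h : ((g ≫ f).stalkMap x).hom = (g.stalkMap x).hom.comp (f.stalkMap (g x)).hom :=
        congrArg CommRingCat.Hom.hom (Scheme.Hom.stalkMap_comp g f x)
      rw [h]; rfl)).trans e0
  rw [← ringKrullDim_eq_of_ringEquiv e, ← ringKrullDim_eq_of_ringEquiv e1, ← ringKrullDim_eq_of_ringEquiv e2]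
  exact fibre_comp_dim_le

/-- Dimension formula for a flat morphism at a point. -/
theorem ringKrullDim_stalk_eq_add (h : X ⟶ Y) [Flat h] (x : X) [IsNoetherianRing (X.presheaf.stalk x)]
    [IsNoetherianRing (Y.presheaf.stalk (h x))] :
    ringKrullDim (X.presheaf.stalk x) =
      ringKrullDim (Y.presheaf.stalk (h x)) + ringKrullDim (_root_.CInt.fiberStalk h x) := by
  letI := (h.stalkMap x).hom.toAlgebra
  haveI : IsLocalHom (algebraMap (Y.presheaf.stalk (h x)) (X.presheaf.stalk x)) :=
    inferInstanceAs (IsLocalHom (h.stalkMap x).hom)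
  haveI : Module.Flat (Y.presheaf.stalk (h x)) (X.presheaf.stalk x) := Flat.stalkMap h x
  obtain ⟨e⟩ := CMFlat.nonempty_fiberStalk_equiv h x
  obtain ⟨c, d, hc, hd, hcd⟩ := CMFlat.dims (R := Y.presheaf.stalk (h x)) (S := X.presheaf.stalk x)
  rw [← ringKrullDim_eq_of_ringEquiv e, hcd, hc]
  erw [hd]
  push_cast
  rfl

variable {X' Y' : Scheme.{u}} {f : X ⟶ Y} {f' : X' ⟶ Y'} {g' : X' ⟶ X} {g : Y' ⟶ Y}

/-- Fibre stalk dimension under base change. -/
theorem ringKrullDim_fiberStalk_baseChange (hc : IsPullback g' f' f g) [IsLocallyNoetherian X]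
    [IsLocallyNoetherian X'] (x' : X') :
    ringKrullDim (_root_.CInt.fiberStalk f (g' x')) ≤ ringKrullDim (_root_.CInt.fiberStalk f' x') ∧
      ∃ x'' : X', g' x'' = g' x' ∧
        ringKrullDim (_root_.CInt.fiberStalk f' x'') = ringKrullDim (_root_.CInt.fiberStalk f (g' x')) := by
  let y' := f' x'
  let h := ConsEngine.fiberBC hc y'
  haveI : Flat h := MorphismProperty.of_isPullback (P := @Flat)
    (ConsEngine.isPullback_fiberBC hc y').flip inferInstance
  have key : ∀ a : f'.fiber y', ringKrullDim (_root_.CInt.fiberStalk f' (f'.fiberι y' a)) =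
      ringKrullDim (_root_.CInt.fiberStalk f (g' (f'.fiberι y' a))) + ringKrullDim (_root_.CInt.fiberStalk h a) := by
    intro a
    haveI := isNoetherianRing_stalk_fiber f' a
    haveI := isNoetherianRing_stalk_fiber f (h a)
    obtain ⟨e1⟩ := CMFlat.nonempty_stalk_equiv_asFiber f' _ a rfl
    obtain ⟨e2⟩ := CMFlat.nonempty_stalk_equiv_asFiber f (g' (f'.fiberι y' a)) (h a) (by
      rw [← Scheme.Hom.comp_apply, ConsEngine.fiberBC_fiberι, Scheme.Hom.comp_apply])
    rw [← ringKrullDim_eq_of_ringEquiv e1, ← ringKrullDim_eq_of_ringEquiv e2]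
    exact ringKrullDim_stalk_eq_add h a
  refine ⟨?_, ?_⟩
  · have h1 := key (f'.asFiber x')
    rw [f'.fiberι_asFiber] at h1
    rw [h1]
    haveI : Nontrivial (_root_.CInt.fiberStalk h (f'.asFiber x')) := inferInstance
    exact le_add_of_nonneg_right ringKrullDim_nonneg_of_nontrivial
  · obtain ⟨a, ha, -, ha0⟩ := exists_fiberStalk_dim_zero h (f'.asFiber x')
    have hga : ∀ b, g' (f'.fiberι y' b) = f.fiberι (g y') (h b) := fun b => by
      rw [← Scheme.Hom.comp_apply, ← Scheme.Hom.comp_apply, ConsEngine.fiberBC_fiberι]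
    have hg' : g' (f'.fiberι y' a) = g' x' := by
      rw [hga, ha, ← hga, f'.fiberι_asFiber]
    refine ⟨_, hg', ?_⟩
    rw [key, ha0, add_zero, hg']

end Groth.Agent.CInt
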