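import Groth.Agent.CMFlat.Scheme
import Groth.Prelude.Def_CInt

/-!
# Depth of a flat local algebra is at least the depth of the closed fibre
-/

set_option autoImplicit false
set_option linter.style.haveILetI false
universe u

open IsLocalRing CategoryTheory AlgebraicGeometry RingTheory.Sequence

namespace Groth.Agent.CInt

theorem le_depth_of_fibre_depth {R S : Type u} [CommRing R] [CommRing S] [IsLocalRing R] [IsLocalRing S]
    [IsNoetherianRing S] [Algebra R S] [IsLocalHom (algebraMap R S)] [Module.Flat R S]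
    [IsLocalRing (S ⧸ (maximalIdeal R).map (algebraMap R S))] {d : ℕ}
    (hd : (d : ℕ∞) ≤ LocCoh.depth (S ⧸ (maximalIdeal R).map (algebraMap R S))
      (S ⧸ (maximalIdeal R).map (algebraMap R S))) :
    (d : ℕ∞) ≤ LocCoh.depth S S := by
  obtain ⟨rF, hlF, hwF, hmF⟩ := SerreReg.exists_list_of_hasRegSeq d (CMSop.hasRegSeq_of_depth hd)
  obtain ⟨y, rfl⟩ : ∃ y : List S, y.map (Ideal.Quotient.mk _) = rF :=
    ⟨rF.map (Function.surjInv Ideal.Quotient.mk_surjective), by
      rw [List.map_map]; exact List.map_id'' (Function.surjInv_eq _) rF⟩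
  have hy : IsWeaklyRegular (S ⧸ ((maximalIdeal R).map (algebraMap R S) • (⊤ : Submodule S S))) y := by
    refine ((Submodule.quotEquivOfEq _ _ (show ((maximalIdeal R).map (algebraMap R S) • ⊤ : Submodule S S) =
      (maximalIdeal R).map (algebraMap R S) by rw [smul_eq_mul, Ideal.mul_top])).isWeaklyRegular_congr y).2 ?_
    exact (isWeaklyRegular_map_algebraMap_iff (S := S ⧸ (maximalIdeal R).map (algebraMap R S)) _ y).1
      (by rw [Ideal.Quotient.algebraMap_eq]; exact hwF)
  obtain ⟨hyw, -⟩ := InjFibre.regSeq_noeth (A := R) S y hy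
  rw [LocCoh.depth, LocCoh.idealDepth, if_neg (by
    rw [smul_eq_mul, Ideal.mul_top]; exact (maximalIdeal.isMaximal S).ne_top)]
  refine le_iSup₂_of_le y ⟨hyw, fun r hr => ?_⟩ (by rw [← hlF, List.length_map])
  have := hmF _ (List.mem_map_of_mem (f := Ideal.Quotient.mk _) hr)
  rw [IsLocalRing.mem_maximalIdeal, mem_nonunits_iff] at this ⊢
  exact fun hu => this (hu.map _)

theorem le_depth_stalk_of_fibre_depth {X S : Scheme.{u}} (f : X ⟶ S) [IsLocallyNoetherian X] [Flat f] (y : X)
    {d : ℕ} (hd : (d : ℕ∞) ≤ LocCoh.depth (_root_.CInt.fiberStalk f y) (_root_.CInt.fiberStalk f y)) :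
    (d : ℕ∞) ≤ LocCoh.depth (X.presheaf.stalk y) (X.presheaf.stalk y) := by
  obtain ⟨e⟩ := CMFlat.nonempty_fiberStalk_equiv f y
  letI := (f.stalkMap y).hom.toAlgebra
  haveI : Module.Flat (S.presheaf.stalk (f y)) (X.presheaf.stalk y) := Flat.stalkMap f y
  haveI : IsLocalHom (algebraMap (S.presheaf.stalk (f y)) (X.presheaf.stalk y)) :=
    inferInstanceAs (IsLocalHom (f.stalkMap y).hom)
  haveI : IsLocalRing (X.presheaf.stalk y ⧸ (maximalIdeal (S.presheaf.stalk (f y))).map
      (algebraMap (S.presheaf.stalk (f y)) (X.presheaf.stalk y))) := e.symm.isLocalRing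
  exact le_depth_of_fibre_depth (R := S.presheaf.stalk (f y)) (hd.trans (CMChart.depth_le_of_ringEquiv e.symm))

end Groth.Agent.CInt
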