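import Mathlib

/-!
Weakly regular sequences in short exact sequences.
-/

set_option autoImplicit false

namespace Groth.Agent.CInt

open RingTheory.Sequence Pointwise LinearMap

universe u v

variable {A : Type u} [CommRing A]

theorem mk_mem_ofList_smul_iff {M : Type v} [AddCommGroup M] [Module A M] (f : A) (rs : List A) (m : M) :
    (Submodule.Quotient.mk m : QuotSMulTop f M) ∈ Ideal.ofList rs • (⊤ : Submodule A (QuotSMulTop f M)) ↔
      m ∈ Ideal.ofList (f :: rs) • (⊤ : Submodule A M) := by
  rw [Ideal.ofList_cons_smul, sup_comm, ← Submodule.range_mkQ (f • (⊤ : Submodule A M)), ← Submodule.map_top,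
    ← Submodule.map_smul'', ← Submodule.mkQ_apply, ← Submodule.mem_comap, Submodule.comap_map_eq, Submodule.ker_mkQ]

theorem mem_smul_top_of_exact (rs : List A) : ∀ {X Y Z : Type v} [AddCommGroup X] [Module A X] [AddCommGroup Y]
    [Module A Y] [AddCommGroup Z] [Module A Z] (a : X →ₗ[A] Y) (b : Y →ₗ[A] Z), Function.Injective a →
    Function.Surjective b → Function.Exact a b → IsWeaklyRegular Z rs →
    ∀ x : X, a x ∈ Ideal.ofList rs • (⊤ : Submodule A Y) → x ∈ Ideal.ofList rs • (⊤ : Submodule A X) := by
  induction rs with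
  | nil =>
    intro X Y Z _ _ _ _ _ _ a b ha hb hex hZ x hx
    rw [Ideal.ofList_nil, Submodule.bot_smul, Submodule.mem_bot] at hx ⊢
    exact ha (hx.trans (map_zero a).symm)
  | cons f rs ih =>
    intro X Y Z _ _ _ _ _ _ a b ha hb hex hZ x hx
    obtain ⟨hf, hr⟩ := (isWeaklyRegular_cons_iff Z f rs).1 hZ
    have hinj : Function.Injective (QuotSMulTop.map f a) := by
      rw [injective_iff_map_eq_zero]
      intro q hq
      obtain ⟨x, rfl⟩ := Submodule.Quotient.mk_surjective _ q
      rw [QuotSMulTop.map_apply_mk, Submodule.Quotient.mk_eq_zero] at hq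
      obtain ⟨y, -, hy : f • y = a x⟩ := hq
      have : f • b y = f • (0 : Z) := by rw [← map_smul, hy, hex.apply_apply_eq_zero, smul_zero]
      obtain ⟨x0, rfl⟩ := (hex y).1 (hf this)
      rw [Submodule.Quotient.mk_eq_zero, ← ha ((map_smul a f x0).trans hy)]
      exact Submodule.smul_mem_pointwise_smul x0 f _ Submodule.mem_top
    rw [← mk_mem_ofList_smul_iff] at hx ⊢
    rw [← QuotSMulTop.map_apply_mk] at hx
    exact ih _ _ hinj (QuotSMulTop.map_surjective f hb) (QuotSMulTop.map_exact f hex hb) hr _ hx

theorem isWeaklyRegular_left_of_exact (rs : List A) : ∀ {X Y Z : Type v} [AddCommGroup X] [Module A X] [AddCommGroup Y]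
    [Module A Y] [AddCommGroup Z] [Module A Z] (a : X →ₗ[A] Y) (b : Y →ₗ[A] Z), Function.Injective a →
    Function.Surjective b → Function.Exact a b → IsWeaklyRegular Y rs → IsWeaklyRegular Z rs → IsWeaklyRegular X rs := by
  induction rs with
  | nil => intros; exact IsWeaklyRegular.nil A _
  | cons f rs ih =>
    intro X Y Z _ _ _ _ _ _ a b ha hb hex hY hZ
    obtain ⟨hf, hr⟩ := (isWeaklyRegular_cons_iff Z f rs).1 hZ
    obtain ⟨hf', hr'⟩ := (isWeaklyRegular_cons_iff Y f rs).1 hY
    refine (isWeaklyRegular_cons_iff X f rs).2 ⟨fun x x' h => ha (hf' ?_),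
      ih _ _ ?_ (QuotSMulTop.map_surjective f hb) (QuotSMulTop.map_exact f hex hb) hr' hr⟩
    · show f • a x = f • a x'
      rw [← map_smul, ← map_smul]
      exact congrArg a h
    · rw [injective_iff_map_eq_zero]
      intro q hq
      obtain ⟨x, rfl⟩ := Submodule.Quotient.mk_surjective _ q
      rw [QuotSMulTop.map_apply_mk, Submodule.Quotient.mk_eq_zero] at hq
      obtain ⟨y, -, hy : f • y = a x⟩ := hq
      have : f • b y = f • (0 : Z) := by rw [← map_smul, hy, hex.apply_apply_eq_zero, smul_zero]
      obtain ⟨x0, rfl⟩ := (hex y).1 (hf this)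
      rw [Submodule.Quotient.mk_eq_zero, ← ha ((map_smul a f x0).trans hy)]
      exact Submodule.smul_mem_pointwise_smul x0 f _ Submodule.mem_top

theorem isWeaklyRegular_right_of_exact [IsNoetherianRing A] (rs : List A) (hrad : ∀ f ∈ rs, f ∈ (⊥ : Ideal A).jacobson) :
    ∀ {X Y Z : Type v} [AddCommGroup X] [Module A X] [AddCommGroup Y] [Module A Y] [AddCommGroup Z] [Module A Z]
    [Module.Finite A Z] (a : X →ₗ[A] Y) (b : Y →ₗ[A] Z), Function.Injective a → Function.Surjective b →
    Function.Exact a b → IsWeaklyRegular Y rs →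
    (∀ x : X, a x ∈ Ideal.ofList rs • (⊤ : Submodule A Y) → x ∈ Ideal.ofList rs • (⊤ : Submodule A X)) →
    IsWeaklyRegular Z rs := by
  induction rs with
  | nil => intros; exact IsWeaklyRegular.nil A _
  | cons f rs ih =>
    intro X Y Z _ _ _ _ _ _ _ a b ha hb hex hY hinj
    obtain ⟨hf', hr'⟩ := (isWeaklyRegular_cons_iff Y f rs).1 hY
    let α := QuotSMulTop.map f a
    let β := QuotSMulTop.map f b
    have hβ : Function.Surjective β := QuotSMulTop.map_surjective f hb
    have hex' : Function.Exact α β := QuotSMulTop.map_exact f hex hb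
    let I' := LinearMap.range α
    have hexI : Function.Exact I'.subtype β := fun y => by
      rw [Submodule.coe_subtype, Subtype.range_coe]
      exact hex' y
    have hinj' : ∀ w : I', I'.subtype w ∈ Ideal.ofList rs • (⊤ : Submodule A (QuotSMulTop f Y)) →
        w ∈ Ideal.ofList rs • (⊤ : Submodule A I') := by
      rintro ⟨_, q, rfl⟩ hw
      obtain ⟨x, rfl⟩ := Submodule.Quotient.mk_surjective _ q
      have hx := hinj x ((mk_mem_ofList_smul_iff f rs (a x)).1 hw)
      rw [← mk_mem_ofList_smul_iff] at hx
      exact (Submodule.map_le_iff_le_comap.1 ((Submodule.map_smul'' _ _ α.rangeRestrict).trans_le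
        (Submodule.smul_mono le_rfl le_top))) hx
    haveI : Module.Finite A (QuotSMulTop f Z) := inferInstance
    have hrZ : IsWeaklyRegular (QuotSMulTop f Z) rs :=
      ih (fun g hg => hrad g (List.mem_cons_of_mem _ hg)) I'.subtype β I'.subtype_injective hβ hexI hr' hinj'
    have hrI : IsWeaklyRegular I' rs := isWeaklyRegular_left_of_exact rs I'.subtype β I'.subtype_injective hβ hexI hr' hrZ
    let D := LinearMap.ker α
    -- `D` is finitely generated, being a quotient of a submodule of `Z`.
    let Q : Submodule A Y := (LinearMap.range a).comap (f • LinearMap.id)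
    let ψ : Q →ₗ[A] QuotSMulTop f X := (Submodule.mkQ _).comp ((LinearEquiv.ofInjective a ha).symm.toLinearMap.comp
      (((f • LinearMap.id : Y →ₗ[A] Y).comp Q.subtype).codRestrict (LinearMap.range a) fun y => show f • (y : Y) ∈ LinearMap.range a from y.2))
    have hψ : ∀ (y : Q) (x : X), a x = f • (y : Y) → ψ y = Submodule.Quotient.mk x := fun y x h => by
      show Submodule.Quotient.mk ((LinearEquiv.ofInjective a ha).symm _) = _
      congr 1
      exact (LinearEquiv.ofInjective a ha).symm_apply_eq.2 (Subtype.ext h.symm)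
    have hker : LinearMap.ker (b.comp Q.subtype) ≤ LinearMap.ker ψ := fun y hy => by
      obtain ⟨x0, hx0⟩ := (hex (y : Y)).1 hy
      rw [LinearMap.mem_ker, hψ y (f • x0) (by rw [map_smul, hx0]), Submodule.Quotient.mk_eq_zero]
      exact Submodule.smul_mem_pointwise_smul x0 f _ Submodule.mem_top
    have hD : D ≤ LinearMap.range ψ := fun q hq => by
      obtain ⟨x, rfl⟩ := Submodule.Quotient.mk_surjective _ q
      rw [LinearMap.mem_ker, QuotSMulTop.map_apply_mk, Submodule.Quotient.mk_eq_zero] at hq
      obtain ⟨y, -, hy : f • y = a x⟩ := hq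
      exact ⟨⟨y, x, hy.symm⟩, hψ _ x hy.symm⟩
    haveI : IsNoetherian A Z := isNoetherian_of_isNoetherianRing_of_finite A Z
    haveI : IsNoetherian A (LinearMap.range ψ) := by
      have e : LinearMap.range ((LinearMap.ker (b.comp Q.subtype)).liftQ ψ hker ∘ₗ
          (b.comp Q.subtype).quotKerEquivRange.symm.toLinearMap) = LinearMap.range ψ := by
        rw [LinearMap.range_comp, LinearEquiv.range, Submodule.map_top, Submodule.range_liftQ]
      rw [← e]
      exact isNoetherian_range _
    have hDfg : D.FG := by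
      have := (IsNoetherian.noetherian (D.comap (LinearMap.range ψ).subtype)).map (LinearMap.range ψ).subtype
      rwa [Submodule.map_comap_subtype, inf_eq_right.2 hD] at this
    have hDJ : D ≤ Ideal.ofList rs • D := fun d hd => by
      have hd' : d ∈ Ideal.ofList rs • (⊤ : Submodule A (QuotSMulTop f X)) := by
        obtain ⟨x, rfl⟩ := Submodule.Quotient.mk_surjective _ d
        rw [mk_mem_ofList_smul_iff]
        refine hinj x ((mk_mem_ofList_smul_iff f rs (a x)).1 ?_)
        rw [← QuotSMulTop.map_apply_mk]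
        rw [LinearMap.mem_ker.1 hd]
        exact Submodule.zero_mem _
      have h1 := mem_smul_top_of_exact rs D.subtype α.rangeRestrict D.subtype_injective α.surjective_rangeRestrict
        (fun q => by
          rw [Submodule.coe_subtype, Subtype.range_coe, ← Subtype.coe_inj]
          rfl) hrI ⟨d, hd⟩ hd'
      have h2 := Submodule.mem_map_of_mem (f := D.subtype) h1
      rwa [Submodule.map_smul'', Submodule.map_top, Submodule.range_subtype] at h2
    have hD0 : D = ⊥ := Submodule.eq_bot_of_le_smul_of_le_jacobson_bot _ D hDfg hDJ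
      (Ideal.span_le.2 fun g hg => hrad g (List.mem_cons_of_mem _ hg))
    refine (isWeaklyRegular_cons_iff Z f rs).2 ⟨isSMulRegular_iff_right_eq_zero_of_smul.2 fun z hz => ?_, hrZ⟩
    obtain ⟨y, rfl⟩ := hb z
    rw [← map_smul] at hz
    obtain ⟨x, hx⟩ := (hex _).1 hz
    have hxD : (Submodule.Quotient.mk x : QuotSMulTop f X) ∈ D := by
      rw [LinearMap.mem_ker, QuotSMulTop.map_apply_mk, hx, Submodule.Quotient.mk_eq_zero]
      exact Submodule.smul_mem_pointwise_smul y f _ Submodule.mem_top
    rw [hD0, Submodule.mem_bot, Submodule.Quotient.mk_eq_zero] at hxD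
    obtain ⟨x0, -, hx0 : f • x0 = x⟩ := hxD
    rw [← hx0, map_smul] at hx
    rw [← hf' hx]
    exact hex.apply_apply_eq_zero x0

end Groth.Agent.CInt
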